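import Groth.Agent.Lib.MTExt.Torsion
import Groth.Agent.Lib.MTBridge.Bridge
import Groth.Agent.H87.Normal
import Groth.Agent.H66.DiagCrit
import Groth.Agent.H66.Trigon2
import Groth.Agent.S8392

/-!
Extensions of groups of multiplicative type have no homomorphisms to the additive group; their geometric fibres are of
multiplicative type.
-/

set_option autoImplicit false
set_option linter.style.haveILetI false
set_option linter.unusedSectionVars false

universe u

open CategoryTheory CategoryTheory.Limits MonoidalCategory CartesianMonoidalCategory MonObj GrpObj AlgebraicGeometry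
open Groth.Agent.Lib.RedPts Groth.Agent.Lib.Tori Groth.Agent.Lib.MTBridge
open scoped TensorProduct

namespace Groth.Agent.Lib.MTExt

noncomputable section

variable {S : Scheme.{u}} {H E K : Over S} [GrpObj H] [GrpObj E] [GrpObj K] {i : H ⟶ E} {p : E ⟶ K} [IsMonHom i] [IsMonHom p]
  [Surjective p.left] [Flat p.left] [QuasiCompact p.left]

/-- An extension of groups of multiplicative type has no homomorphism to the additive group. -/
theorem hom_Ga_eq_one (hker : AlgGrp.IsKernel i p) (hH : SGA3x.IsMultTypeFT H) (hK : SGA3x.IsMultTypeFT K)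
    (u : E ⟶ Red.Ga S) [IsMonHom u] : u = 1 := by
  have h1 : i ≫ u = 1 := @Groth.Agent.S8392.result S H _ hH (i ≫ u) inferInstance
  obtain ⟨g, hg⟩ := exists_desc p u fun X a b hab => by
    obtain ⟨y, rfl⟩ := exists_lift_div hker a b hab
    rw [MonObj.mul_comp _ _ u, Category.assoc, h1, MonObj.comp_one, _root_.one_mul]
  haveI : IsMonHom g := Groth.Agent.H87.HomDS.isMonHom_of_points g fun X k l => by
    obtain ⟨X₁, π₁, a, hπ₁, ha⟩ := exists_cover p k
    obtain ⟨X₂, π₂, b, hπ₂, hb⟩ := exists_cover p (π₁ ≫ l)
    rw [← cancel_epi π₁, ← cancel_epi π₂]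
    simp only [← Category.assoc, comp_mul]
    rw [show (π₂ ≫ π₁) ≫ k = (π₂ ≫ a) ≫ p by rw [Category.assoc, Category.assoc, ha],
      show (π₂ ≫ π₁) ≫ l = b ≫ p by rw [Category.assoc, hb], ← MonObj.mul_comp _ _ p]
    simp only [Category.assoc, hg]
    rw [MonObj.mul_comp _ _ u, Category.assoc]
  rw [← hg, Groth.Agent.S8392.result S K hK g, MonObj.comp_one]

omit [GrpObj H] [GrpObj K] in
/-- The coordinate ring of a commutative affine group is cocommutative. -/
theorem isCocomm_of_comm {R : Type u} [CommRing R] {C : Type u} [CommRing C] [HopfAlgebra R C]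
    (h : ∀ (X : Over (Spec (CommRingCat.of R))) (a b : X ⟶ GA R C), a * b = b * a) : Coalgebra.IsCocomm R C := by
  let inl : C →ₐ[R] C ⊗[R] C := Algebra.TensorProduct.includeLeft
  let inr : C →ₐ[R] C ⊗[R] C := Algebra.TensorProduct.includeRight
  have hc : WithConv.toConv inl * WithConv.toConv inr = WithConv.toConv inr * WithConv.toConv inl := by
    apply (Spec.mapMulEquiv (R := R) (S := C) (T := C ⊗[R] C)).injective
    rw [map_mul, map_mul]
    exact h _ _ _
  refine ⟨LinearMap.ext fun c => ?_⟩
  have h1 := congrArg (fun f : WithConv (C →ₐ[R] C ⊗[R] C) => f.ofConv c) hc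
  simp only [AlgHom.convMul_apply] at h1
  have h2 : ∀ z : C ⊗[R] C, Algebra.TensorProduct.lift inl inr (fun _ _ => Commute.all _ _) z = z ∧
      Algebra.TensorProduct.lift inr inl (fun _ _ => Commute.all _ _) z = TensorProduct.comm R C C z := fun z => by
    induction z using TensorProduct.induction_on with
    | zero => simp
    | tmul x y => simp [inl, inr]
    | add x y hx hy => simp only [map_add, hx.1, hy.1, hx.2, hy.2, and_self]
  rw [(h2 _).1, (h2 _).2] at h1
  exact h1.symm

/-- A commutative group without homomorphism to the additive group over an algebraically closed field is of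
multiplicative type. -/
theorem isMultType_of_noGa {k : Type u} [Field k] [IsAlgClosed k] {C : Type u} [CommRing C] [HopfAlgebra k C]
    [Coalgebra.IsCocomm k C] [Algebra.FiniteType k C]
    (h : ∀ u : GA k C ⟶ Red.Ga (Spec (CommRingCat.of k)), IsMonHom u → u = 1) : SGA3b.IsMultType k C := by
  have hnp : Groth.Agent.H66.UnipBC.NoPrim k C := by
    intro f hf
    let f' : Γ((GA k C).left, ⊤) := (Scheme.ΓSpecIso (CommRingCat.of C)).inv f
    let u : GA k C ⟶ Red.Ga (Spec (CommRingCat.of k)) := Ga.gaPt f'
    have hfn : ∀ {X : Over (Spec (CommRingCat.of k))} (x : X ⟶ GA k C),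
        Red.gaFn (x ≫ u) = Points.ringHomOf x.left f := fun x => by
      rw [Ga.gaFn_comp, Ga.gaFn_gaPt]
      rfl
    have hu : u = 1 := h u (Groth.Agent.H87.HomDS.isMonHom_of_points u fun X a b => Ga.gaFn_injective (by
      rw [Ga.gaFn_mul, hfn, hfn, hfn]
      exact Points.ringHomOf_mul_of_primitive a b hf))
    have h0 : f' = 0 := by
      rw [← Ga.gaFn_gaPt f']
      show Red.gaFn u = 0
      rw [hu, Ga.gaFn_one]
    exact (ConcreteCategory.bijective_of_isIso (Scheme.ΓSpecIso (CommRingCat.of C)).inv).1
      (h0.trans (map_zero _).symm)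
  have hdiag : HopfRep.IsDiagonalizable k C :=
    Groth.Agent.H66.DiagCrit.isDiagonalizable_of_noPrim Groth.Agent.H66.Trigon.isTrigonalizable_of_isCocomm hnp
  have hbij : Function.Bijective (Groth.Agent.H66.Trigon2.charMap k C) := by
    refine ⟨Groth.Agent.H66.Trigon2.injective_charMap, fun z => ?_⟩
    have hz : z ∈ Submodule.span k {a : C | IsGroupLikeElem k a} := hdiag.symm ▸ Submodule.mem_top
    induction hz using Submodule.span_induction with
    | mem g hg => exact ⟨MonoidAlgebra.single ⟨g, hg⟩ 1, Groth.Agent.H66.Trigon2.charMap_single _⟩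
    | zero => exact ⟨0, map_zero _⟩
    | add p q _ _ hp hq => obtain ⟨p, rfl⟩ := hp; obtain ⟨q, rfl⟩ := hq; exact ⟨p + q, map_add _ _ _⟩
    | smul c p _ hp => obtain ⟨p, rfl⟩ := hp; exact ⟨c • p, map_smul _ c p⟩
  let e : C ≃ₐc[k] MonoidAlgebra k (GroupLike k C) :=
    (BialgEquiv.ofBijective (Groth.Agent.H66.Trigon2.charMap k C) hbij).symm
  obtain ⟨E'⟩ := Groth.Agent.H83.Complete.exists_equiv_baseChange e k
  let T : (k ⊗[k] C) ≃ₐc[k] C := Bialgebra.TensorProduct.lid k C
  exact Groth.Agent.H83.MultType.isMultType_of_diag k ⟨GroupLike k C, inferInstance, ⟨T.trans e⟩⟩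

/-- The geometric fibres of a commutative extension of groups of multiplicative type are of multiplicative type. -/
theorem isMultTypeFT_geomFibre (hker : AlgGrp.IsKernel i p) (hH : SGA3x.IsMultTypeFT H) (hK : SGA3x.IsMultTypeFT K)
    [IsAffineHom E.hom] [LocallyOfFinitePresentation E.hom]
    (hcomm : ∀ (X : Over S) (a b : X ⟶ E), a * b = b * a) (s : S) : SGA3x.IsMultTypeFT (Red.geomFibre s E) := by
  let k := AlgebraicClosure (S.residueField s)
  let t : Spec (CommRingCat.of k) ⟶ S := Red.geomPt s
  haveI : Surjective ((Over.pullback t).map p).left := Groth.Agent.H87.Charts.fib_of @Surjective t p inferInstance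
  haveI : Flat ((Over.pullback t).map p).left := Groth.Agent.H87.Charts.fib_of @Flat t p inferInstance
  haveI : QuasiCompact ((Over.pullback t).map p).left := Groth.Agent.H87.Charts.fib_of @QuasiCompact t p inferInstance
  let Et := Red.bc t E
  haveI : IsAffineHom Et.hom := inferInstanceAs (IsAffineHom (pullback.snd E.hom t))
  haveI : IsAffine Et.left := isAffine_of_isAffineHom Et.hom
  haveI : LocallyOfFinitePresentation Et.hom := inferInstanceAs (LocallyOfFinitePresentation (pullback.snd E.hom t))
  obtain ⟨C, _, _, eC, heC⟩ := Groth.Agent.H1.Hopf.exists_iso Et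
  haveI := heC
  haveI : IsIso eC.inv.left := inferInstanceAs (IsIso ((Over.forget _).map eC.inv))
  haveI : Algebra.FiniteType k C := by
    have h : LocallyOfFinitePresentation (Spec.map (CommRingCat.ofHom (algebraMap k C))) := by
      show LocallyOfFinitePresentation (GA k C).hom
      rw [← Over.w eC.inv]
      infer_instance
    rw [HasRingHomProperty.Spec_iff (P := @LocallyOfFinitePresentation), CommRingCat.hom_ofHom,
      RingHom.finitePresentation_algebraMap] at h
    infer_instance
  have hct : ∀ (X : Over (Spec (CommRingCat.of k))) (a b : X ⟶ Et), a * b = b * a := fun X a b =>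
    BC.down_injective (by rw [BC.down_mul, BC.down_mul, hcomm])
  haveI : Coalgebra.IsCocomm k C := isCocomm_of_comm fun X a b => by
    rw [← cancel_mono eC.inv, MonObj.mul_comp _ _ eC.inv, MonObj.mul_comp _ _ eC.inv, hct]
  have hC : SGA3b.IsMultType k C := isMultType_of_noGa fun u hu => by
    haveI := hu
    have h := hom_Ga_eq_one (S := Spec (CommRingCat.of k)) (isKernel_bc hker t)
      (Groth.Agent.H87.Normal.multTypeFT_bc hH t) (Groth.Agent.H87.Normal.multTypeFT_bc hK t) (eC.hom ≫ u)
    rw [← cancel_epi eC.hom, h, MonObj.comp_one]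
  refine Groth.Agent.Lib.MTBridge.isMultTypeFT_of_affine Et fun x => ?_
  exact ⟨k, inferInstance, 𝟙 _, inferInstance, C, inferInstance, inferInstance, ⟨x, rfl⟩, inferInstance, hC,
    ⟨BaseChange.bcId Et ≪≫ BaseChange.grpIso eC⟩⟩

end

end Groth.Agent.Lib.MTExt
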