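import Groth.Prelude.Def_SGA3x
import Groth.Agent.H87.Charts
import Groth.Agent.H87.MT
import Groth.Agent.Lib.RedPts.Gm
import Mathlib.AlgebraicGeometry.Morphisms.Finite
import Mathlib

/-!
Power maps of groups of multiplicative type are finite.
-/

set_option autoImplicit false
set_option linter.style.haveILetI false
set_option linter.unusedSectionVars false

universe u

open CategoryTheory CategoryTheory.Limits MonoidalCategory CartesianMonoidalCategory MonObj GrpObj AlgebraicGeometry
open Groth.Agent.Lib.RedPts Groth.Agent.Lib.Tori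

namespace Groth.Agent.Lib.MTExt

noncomputable section

variable {S : Scheme.{u}}

theorem pow_DS (X : Scheme.{u}) (M : Type) [AddCommGroup M] (n : ℕ) :
    (𝟙 (Red.DS X M) ^ n : Red.DS X M ⟶ Red.DS X M) = Red.DSmap X (n • AddMonoidHom.id M) :=
  Gm.dsFn_ext fun m => by
    rw [Gm.dsFn_pow, ← Gm.dsFn_nsmul, ← Category.id_comp (Red.DSmap X _), Gm.dsFn_DSmap]
    rfl

theorem finite_mapDomain (M : Type) [AddCommGroup M] [AddGroup.FG M] (R : Type u) [CommRing R] {n : ℕ} (hn : 0 < n) :
    ((MonoidAlgebra.mapDomainAlgHom R R (AddMonoidHom.toMultiplicative (n • AddMonoidHom.id M))).toRingHom).Finite := by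
  haveI : AddMonoid.FG M := AddGroup.fg_iff_addMonoid_fg.mp inferInstance
  haveI : Monoid.FG (Multiplicative M) := inferInstance
  let f := MonoidAlgebra.mapDomainAlgHom R R (AddMonoidHom.toMultiplicative (n • AddMonoidHom.id M))
  refine RingHom.IsIntegral.to_finite (fun x => ?_) ?_
  · induction x using MonoidAlgebra.induction_linear with
    | zero => exact f.toRingHom.isIntegralElem_zero
    | add a b ha hb => exact ha.add _ hb
    | single m r =>
      have h1 : MonoidAlgebra.single m r = f (MonoidAlgebra.single 1 r) * MonoidAlgebra.single m 1 := by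
        simp [f, MonoidAlgebra.single_mul_single]
      have h2 : (MonoidAlgebra.single m 1 : MonoidAlgebra R (Multiplicative M)) ^ n = f (MonoidAlgebra.single m 1) := by
        simp [f, MonoidAlgebra.single_pow]
      rw [h1]
      refine RingHom.IsIntegralElem.mul _ (f.toRingHom.isIntegralElem_map) ?_
      refine ⟨Polynomial.X ^ n - Polynomial.C (MonoidAlgebra.single m 1), Polynomial.monic_X_pow_sub_C _ hn.ne', ?_⟩
      rw [Polynomial.eval₂_sub, Polynomial.eval₂_X_pow, Polynomial.eval₂_C, h2]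
      exact sub_self _
  · exact RingHom.FiniteType.of_comp_finiteType (f := algebraMap R _) (by
      show (f.toRingHom.comp (algebraMap R _)).FiniteType
      rw [show f.toRingHom.comp (algebraMap R _) = algebraMap R _ from f.comp_algebraMap, RingHom.finiteType_algebraMap]
      infer_instance)

theorem isFinite_pow_DS (X : Scheme.{u}) (M : Type) [AddCommGroup M] [AddGroup.FG M] {n : ℕ} (hn : 0 < n) :
    IsFinite (𝟙 (Red.DS X M) ^ n : Red.DS X M ⟶ Red.DS X M).left := by
  rw [pow_DS]
  refine Groth.Agent.H87.Charts.fib_of @IsFinite _ (Red.diagMap (ULift.{u} ℤ) (n • AddMonoidHom.id M)) ?_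
  show IsFinite (Spec.map _)
  rw [IsFinite.SpecMap_iff, CommRingCat.hom_ofHom]
  exact finite_mapDomain M _ hn

theorem isFinite_pow_of_iso {H H' : Over S} [GrpObj H] [GrpObj H'] (e : Grp.mk H ≅ Grp.mk H') (n : ℕ)
    (h : IsFinite (𝟙 H' ^ n : H' ⟶ H').left) : IsFinite (𝟙 H ^ n : H ⟶ H).left := by
  let c := BaseChange.overIso e
  haveI : IsMonHom c.hom := BaseChange.isMonHom_overIso e
  haveI : IsIso c.hom.left := inferInstanceAs (IsIso ((Over.forget _).map c.hom))
  haveI : IsIso c.inv.left := inferInstanceAs (IsIso ((Over.forget _).map c.inv))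
  have he : (𝟙 H ^ n : H ⟶ H) = c.hom ≫ (𝟙 H' ^ n : H' ⟶ H') ≫ c.inv := by
    rw [← Category.assoc, MonObj.comp_pow, Category.comp_id, ← cancel_mono c.hom, Category.assoc, Iso.inv_hom_id,
      Category.comp_id, MonObj.pow_comp, Category.id_comp]
  rw [he, Over.comp_left, Over.comp_left]
  infer_instance

set_option backward.isDefEq.respectTransparency false in
/-- The power maps of a group of multiplicative type and finite type are finite. -/
theorem isFinite_pow {H : Over S} [GrpObj H] (hH : SGA3x.IsMultTypeFT H) {n : ℕ} (hn : 0 < n) :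
    IsFinite (𝟙 H ^ n : H ⟶ H).left := by
  obtain ⟨S', f, hf, hs, hc, hloc⟩ := hH
  have hchart : ∀ x : S', ∃ U : S'.Opens, x ∈ U ∧ Groth.Agent.H87.Charts.Fib @IsFinite (U.ι ≫ f) (𝟙 H ^ n : H ⟶ H) := by
    intro x
    obtain ⟨U, hU, M, iM, hM, ⟨e⟩⟩ := hloc x
    refine ⟨U, hU, ?_⟩
    have hpow : (Over.pullback (U.ι ≫ f)).map (𝟙 H ^ n : H ⟶ H) = (𝟙 (Red.bc (U.ι ≫ f) H) ^ n : _ ⟶ _) := by
      have h := map_pow (Functor.homMonoidHom (Over.pullback (U.ι ≫ f)) (X := H) (M := H)) (𝟙 H) n
      simpa [Functor.homMonoidHom] using h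
    show IsFinite _
    rw [hpow]
    exact isFinite_pow_of_iso e n (isFinite_pow_DS (U : Scheme.{u}) M hn)
  choose U hU hP using hchart
  have hV : ∀ x : S, ∃ V : S.Opens, x ∈ V ∧ Groth.Agent.H87.Charts.Fib @IsFinite V.ι (𝟙 H ^ n : H ⟶ H) := by
    intro x
    obtain ⟨V, hV, hxV, -⟩ := exists_isAffineOpen_mem_and_subset (X := S) (x := x) (U := ⊤) trivial
    obtain ⟨W, hle, hqc, hqs⟩ := Groth.Agent.H87.MT.exists_qc_res f hc hV
    refine ⟨V, hxV, Groth.Agent.H87.Charts.fib_descend @IsFinite (f.resLE V W hle) ?_⟩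
    rw [Scheme.Hom.resLE_comp_ι]
    refine Groth.Agent.H87.Charts.fib_of_cover @IsFinite fun w => ?_
    refine ⟨W.ι ⁻¹ᵁ U w.1, hU w.1, ?_⟩
    rw [← Category.assoc, ← morphismRestrict_ι W.ι (U w.1), Category.assoc]
    exact Groth.Agent.H87.Charts.fib_base @IsFinite _ (hP w.1)
  choose V hxV hPV using hV
  have h := Groth.Agent.H87.Charts.fib_of_cover @IsFinite (t := 𝟙 S) fun x => ⟨V x, hxV x, by rw [Category.comp_id]; exact hPV x⟩
  have hsq := Groth.Agent.H87.Charts.isPullback_map (𝟙 S) (𝟙 H ^ n : H ⟶ H)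
  haveI : IsIso (pullback.fst H.hom (𝟙 S)) := inferInstance
  have h2 : IsFinite (((Over.pullback (𝟙 S)).map (𝟙 H ^ n : H ⟶ H)).left ≫ pullback.fst H.hom (𝟙 S)) := by
    haveI : IsFinite ((Over.pullback (𝟙 S)).map (𝟙 H ^ n : H ⟶ H)).left := h
    infer_instance
  rw [← hsq.w] at h2
  exact (MorphismProperty.cancel_left_of_respectsIso @IsFinite _ _).mp h2

end

end Groth.Agent.Lib.MTExt
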