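import Groth.Agent.Lib.MTExt.Kernel
import Groth.Agent.Lib.MTExt.PowFinite
import Groth.Agent.Lib.MTBridge.TorsionKer
import Groth.Agent.Lib.Tori.AffineDescent
import Mathlib.AlgebraicGeometry.Morphisms.LocalFlatDescent

/-!
Finiteness properties of extensions of groups of multiplicative type.
-/

set_option autoImplicit false
set_option linter.style.haveILetI false
set_option linter.unusedSectionVars false
set_option backward.isDefEq.respectTransparency false

universe u

open CategoryTheory CategoryTheory.Limits MonoidalCategory CartesianMonoidalCategory MonObj GrpObj AlgebraicGeometry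

namespace Groth.Agent.Lib.MTExt

noncomputable section

variable {S : Scheme.{u}} {H E K : Over S} [GrpObj H] [GrpObj E] [GrpObj K] {i : H ⟶ E} {p : E ⟶ K} [IsMonHom i] [IsMonHom p]
  [Surjective p.left] [Flat p.left] [QuasiCompact p.left]

/-- The projection of an extension inherits properties of the kernel. -/
theorem prop_of_kernel (P : MorphismProperty Scheme.{u}) [P.IsStableUnderBaseChange]
    [P.DescendsAlong (@Surjective ⊓ @Flat ⊓ @QuasiCompact)] (hker : AlgGrp.IsKernel i p) (h : P H.hom) : P p.left := by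
  have h1 : IsPullback ((fst H E ≫ i) * snd H E).left (snd H E).left p.left p.left :=
    (isPullback_shear hker).map (Over.forget S)
  refine MorphismProperty.of_isPullback_of_descendsAlong (P := P) (Q := @Surjective ⊓ @Flat ⊓ @QuasiCompact) h1.flip
    ⟨⟨inferInstance, inferInstance⟩, inferInstance⟩ ?_
  show P (snd H E).left
  exact P.of_isPullback (IsPullback.of_hasPullback H.hom E.hom) h

/-- The kernel is a closed subgroup. -/
theorem isClosedImmersion_kernel (hker : AlgGrp.IsKernel i p) [IsSeparated K.hom] : IsClosedImmersion i.left := by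
  haveI : IsClosedImmersion (η[K].left ≫ K.hom) := by
    rw [show η[K].left ≫ K.hom = (𝟙_ (Over S)).hom from Over.w η[K]]
    exact inferInstanceAs (IsClosedImmersion (𝟙 S))
  haveI : IsClosedImmersion η[K].left := IsClosedImmersion.of_comp _ K.hom
  have h1 : IsPullback i.left (toUnit H).left p.left η[K].left := hker.map (Over.forget S)
  exact MorphismProperty.of_isPullback (P := @IsClosedImmersion) h1.flip inferInstance

theorem isAffineHom_ext (hker : AlgGrp.IsKernel i p) [IsAffineHom H.hom] [IsAffineHom K.hom] : IsAffineHom E.hom := by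
  haveI := Groth.Agent.Lib.Tori.AffineDescent.descendsAlong_isAffineHom.{u}
  haveI : IsAffineHom p.left := prop_of_kernel @IsAffineHom hker inferInstance
  rw [← Over.w p]
  infer_instance

theorem locallyOfFinitePresentation_ext (hker : AlgGrp.IsKernel i p) [LocallyOfFinitePresentation H.hom]
    [LocallyOfFinitePresentation K.hom] : LocallyOfFinitePresentation E.hom := by
  haveI : LocallyOfFinitePresentation p.left := prop_of_kernel @LocallyOfFinitePresentation hker inferInstance
  rw [← Over.w p]
  infer_instance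

/-- The structure map of the kernel of a power map is the projection to the unit section. -/
theorem kerMap_eq_fst (n : ℕ) (G : Over S) [GrpObj G] :
    MTBridge.kerMap n G = pullback.fst η[G].left (𝟙 G ^ n : G ⟶ G).left := by
  have h4 : η[G].left ≫ G.hom = (𝟙_ (Over S)).hom := Over.w η[G]
  show pullback.snd _ _ ≫ G.hom = _
  conv_lhs => rw [← Over.w (𝟙 G ^ n : G ⟶ G), ← Category.assoc, ← pullback.condition, Category.assoc, h4]
  exact Category.comp_id _

/-- The torsion subgroups of a commutative extension are finite. -/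
theorem isFinite_kerMap (hker : AlgGrp.IsKernel i p) [IsSeparated E.hom] [IsSeparated K.hom]
    (hcomm : ∀ (X : Over S) (a b : X ⟶ E), a * b = b * a) (n : ℕ)
    (hH : IsFinite (𝟙 H ^ n : H ⟶ H).left) (hK : IsFinite (𝟙 K ^ n : K ⟶ K).left) :
    IsFinite (MTBridge.kerMap n E) := by
  haveI := mono_of_kernel hker
  haveI := isClosedImmersion_kernel hker
  haveI : IsClosedImmersion η[E].left := by
    haveI : IsClosedImmersion (η[E].left ≫ E.hom) := by
      rw [show η[E].left ≫ E.hom = (𝟙_ (Over S)).hom from Over.w η[E]]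
      exact inferInstanceAs (IsClosedImmersion (𝟙 S))
    exact IsClosedImmersion.of_comp _ E.hom
  let En : Over S := Over.mk (MTBridge.kerMap n E)
  let r : En ⟶ E := Over.homMk (pullback.snd _ _)
  haveI : Mono r := (Over.forget S).mono_of_mono_map (show Mono (pullback.snd η[E].left (𝟙 E ^ n : E ⟶ E).left) from inferInstance)
  have hr₁ : ∀ {X : Over S} (y : X ⟶ En), (y ≫ r) ^ n = 1 := fun {X} y => by
    rw [← Category.comp_id (y ≫ r), ← MonObj.comp_pow, Category.assoc]
    apply Over.OverMorphism.ext
    have h0 : (toUnit X).left = y.left ≫ pullback.fst η[E].left (𝟙 E ^ n : E ⟶ E).left := by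
      rw [← kerMap_eq_fst]
      exact ((Category.comp_id _).symm.trans (Over.w (toUnit X))).trans (Over.w y).symm
    show y.left ≫ pullback.snd _ _ ≫ (𝟙 E ^ n : E ⟶ E).left = _
    rw [Hom.one_def, Over.comp_left, h0, Category.assoc, pullback.condition]
  have hr₂ : ∀ {X : Over S} (x : X ⟶ E), x ^ n = 1 → ∃ y : X ⟶ En, y ≫ r = x := by
    intro X x hx
    have h : x ≫ (𝟙 E ^ n : E ⟶ E) = toUnit X ≫ η[E] := by rw [MonObj.comp_pow, Category.comp_id, hx, Hom.one_def]
    refine ⟨Over.homMk (pullback.lift (toUnit X).left x.left congr($(h).left).symm) ?_, Over.OverMorphism.ext (pullback.lift_snd _ _ _)⟩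
    show pullback.lift _ _ _ ≫ pullback.snd _ _ ≫ E.hom = X.hom
    rw [pullback.lift_snd_assoc, Over.w x]
  -- finiteness of the map to the quotient
  let F₀ : En ⟶ K := r ≫ p
  let a : H ⟶ E := (𝟙 H ^ n : H ⟶ H) ≫ i
  let b : E ⟶ E := (𝟙 E ^ n : E ⟶ E)⁻¹
  have ha : ∀ {X : Over S} (y : X ⟶ H), y ≫ a = (y ≫ i) ^ n := fun y => by
    rw [← Category.assoc, MonObj.comp_pow, Category.comp_id, MonObj.pow_comp]
  have hb : ∀ {X : Over S} (y : X ⟶ E), y ≫ b = (y ^ n)⁻¹ := fun y => by
    rw [comp_inv, MonObj.comp_pow, Category.comp_id]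
  have hpow : ∀ {X : Over S} (x y : X ⟶ E), (x * y) ^ n = x ^ n * y ^ n := fun x y => Commute.mul_pow (hcomm _ x y) n
  let P : Over S := Over.mk (pullback.fst F₀.left p.left ≫ En.hom)
  let π₁ : P ⟶ En := Over.homMk (pullback.fst F₀.left p.left)
  let π₂ : P ⟶ E := Over.homMk (pullback.snd F₀.left p.left) (by
    show pullback.snd F₀.left p.left ≫ E.hom = pullback.fst F₀.left p.left ≫ En.hom
    rw [← Over.w p, ← Category.assoc, ← pullback.condition, Category.assoc, Over.w F₀])
  have hP : (π₁ ≫ r) ≫ p = π₂ ≫ p := by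
    rw [Category.assoc]
    exact Over.OverMorphism.ext pullback.condition
  let Z : Over S := Over.mk (pullback.fst a.left b.left ≫ H.hom)
  let ζ₁ : Z ⟶ H := Over.homMk (pullback.fst a.left b.left)
  let ζ₂ : Z ⟶ E := Over.homMk (pullback.snd a.left b.left) (by
    show pullback.snd a.left b.left ≫ E.hom = pullback.fst a.left b.left ≫ H.hom
    rw [← Over.w b, ← Category.assoc, ← pullback.condition, Category.assoc, Over.w a])
  have hZ : ζ₁ ≫ a = ζ₂ ≫ b := Over.OverMorphism.ext pullback.condition
  obtain ⟨d, hd⟩ := exists_lift_div hker _ _ hP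
  have hdn : d ≫ a = π₂ ≫ b := by
    rw [ha, hb, eq_inv_iff_mul_eq_one, ← hpow, hd, hr₁]
  obtain ⟨z, hz⟩ := hr₂ ((ζ₁ ≫ i) * ζ₂) (by rw [hpow, ← ha, hZ, hb, inv_mul_cancel])
  let φ : pullback F₀.left p.left ⟶ pullback a.left b.left := pullback.lift d.left π₂.left congr($(hdn).left)
  let ψ : pullback a.left b.left ⟶ pullback F₀.left p.left := pullback.lift z.left ζ₂.left (by
    have h : (z ≫ r) ≫ p = ζ₂ ≫ p := by rw [hz, MonObj.mul_comp _ _ p, comp_kernel hker, _root_.one_mul]
    exact congr($(h).left))
  let φ' : P ⟶ Z := Over.homMk φ (by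
    show φ ≫ pullback.fst a.left b.left ≫ H.hom = _
    rw [pullback.lift_fst_assoc]
    exact Over.w d)
  let ψ' : Z ⟶ P := Over.homMk ψ (by
    show ψ ≫ pullback.fst F₀.left p.left ≫ En.hom = _
    rw [pullback.lift_fst_assoc]
    exact Over.w z)
  have e1 : φ' ≫ ζ₁ = d := Over.OverMorphism.ext (pullback.lift_fst _ _ _)
  have e2 : φ' ≫ ζ₂ = π₂ := Over.OverMorphism.ext (pullback.lift_snd _ _ _)
  have e3 : ψ' ≫ π₁ = z := Over.OverMorphism.ext (pullback.lift_fst _ _ _)
  have e4 : ψ' ≫ π₂ = ζ₂ := Over.OverMorphism.ext (pullback.lift_snd _ _ _)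
  have hφψ : φ ≫ ψ = 𝟙 _ := by
    refine pullback.hom_ext ?_ ?_
    · have : φ' ≫ z = π₁ := by
        rw [← cancel_mono r, Category.assoc, hz, comp_mul, ← Category.assoc, e1, e2, hd]
      rw [Category.assoc, pullback.lift_fst, Category.id_comp]
      exact congr($(this).left)
    · rw [Category.assoc, pullback.lift_snd, Category.id_comp]
      exact congr($(e2).left)
  have hψφ : ψ ≫ φ = 𝟙 _ := by
    refine pullback.hom_ext ?_ ?_
    · have : ψ' ≫ d = ζ₁ := by
        rw [← cancel_mono i, Category.assoc, ← mul_left_inj ζ₂]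
        have h := congrArg (ψ' ≫ ·) hd
        simp only [comp_mul, ← Category.assoc, e3, e4] at h
        rw [← Category.assoc, h, hz]
      rw [Category.assoc, pullback.lift_fst, Category.id_comp]
      exact congr($(this).left)
    · rw [Category.assoc, pullback.lift_snd, Category.id_comp]
      exact congr($(e4).left)
  haveI : IsIso φ := ⟨ψ, hφψ, hψφ⟩
  haveI : IsFinite a.left := by
    show IsFinite ((𝟙 H ^ n : H ⟶ H).left ≫ i.left)
    infer_instance
  have hfinP : IsFinite (pullback.snd F₀.left p.left) := by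
    rw [show pullback.snd F₀.left p.left = φ ≫ pullback.snd a.left b.left from (pullback.lift_snd _ _ _).symm]
    infer_instance
  have hF₀ : IsFinite F₀.left := MorphismProperty.of_pullback_snd_of_descendsAlong (P := @IsFinite)
    (Q := @Surjective ⊓ @Flat ⊓ @QuasiCompact) ⟨⟨inferInstance, inferInstance⟩, inferInstance⟩ hfinP
  -- factor through the torsion of the quotient
  have hF₀n : F₀ ≫ (𝟙 K ^ n : K ⟶ K) = toUnit En ≫ η[K] := by
    rw [MonObj.comp_pow, Category.comp_id, ← MonObj.pow_comp, show r ^ n = 1 by simpa using hr₁ (𝟙 En), MonObj.one_comp, Hom.one_def]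
  let v : En.left ⟶ pullback η[K].left (𝟙 K ^ n : K ⟶ K).left :=
    pullback.lift (toUnit En).left F₀.left congr($(hF₀n).left).symm
  haveI : IsClosedImmersion η[K].left := by
    haveI : IsClosedImmersion (η[K].left ≫ K.hom) := by
      rw [show η[K].left ≫ K.hom = (𝟙_ (Over S)).hom from Over.w η[K]]
      exact inferInstanceAs (IsClosedImmersion (𝟙 S))
    exact IsClosedImmersion.of_comp _ K.hom
  haveI : IsFinite v := MorphismProperty.of_postcomp (W := @IsFinite) (W' := @IsSeparated) v
    (pullback.snd η[K].left (𝟙 K ^ n : K ⟶ K).left) inferInstance (by rw [pullback.lift_snd]; exact hF₀)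
  have hfac : MTBridge.kerMap n E = v ≫ pullback.fst η[K].left (𝟙 K ^ n : K ⟶ K).left := by
    rw [pullback.lift_fst]
    exact (Over.w (toUnit En)).symm.trans (Category.comp_id _)

  rw [hfac]
  infer_instance

end

end Groth.Agent.Lib.MTExt
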