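import Groth.Agent.Lib.MTExt.Comm
import Groth.Agent.Lib.MTExt.Fibre
import Groth.Agent.Lib.MTBridge.OrderLocal
import Groth.Agent.S5264

/-!
Extensions of groups of multiplicative type.
-/

set_option autoImplicit false
set_option linter.style.haveILetI false
set_option linter.unusedSectionVars false

universe u

open CategoryTheory CategoryTheory.Limits MonoidalCategory CartesianMonoidalCategory MonObj GrpObj AlgebraicGeometry
open Groth.Agent.Lib.RedPts Groth.Agent.Lib.Tori Groth.Agent.Lib.MTBridge
open scoped TensorProduct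

namespace Groth.Agent.Lib.MTExt

noncomputable section

variable {S : Scheme.{u}}

set_option maxHeartbeats 800000 in
/-- A commutative group with fibres of multiplicative type and finite torsion is of multiplicative type. -/
theorem isMultTypeFT_of_finite_torsion (E : Over S) [GrpObj E] [IsAffineHom E.hom] [Flat E.hom] [LocallyOfFinitePresentation E.hom]
    (hcomm : ∀ (X : Over S) (a b : X ⟶ E), a * b = b * a) (hfib : ∀ s : S, SGA3x.IsMultTypeFT (Red.geomFibre s E))
    (hfin : ∀ n : ℕ, 0 < n → IsFinite (kerMap n E)) : SGA3x.IsMultTypeFT E := by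
  refine isMultTypeFT_of_affine E fun s => ?_
  obtain ⟨V, hV, hsV, -⟩ := exists_isAffineOpen_mem_and_subset (X := S) (x := s) (U := ⊤) trivial
  let R : Type u := Γ(S, V)
  let v : Spec (CommRingCat.of R) ⟶ S := hV.fromSpec
  haveI : IsOpenImmersion v := inferInstanceAs (IsOpenImmersion hV.fromSpec)
  haveI : IsAffineHom (Red.bc v E).hom := inferInstanceAs (IsAffineHom (pullback.snd E.hom v))
  haveI : IsAffine (Red.bc v E).left := isAffine_of_isAffineHom (Red.bc v E).hom
  obtain ⟨C, _, _, eC, heC⟩ := Groth.Agent.H1.Hopf.exists_iso (Red.bc v E)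
  haveI := heC
  haveI : IsIso eC.inv.left := inferInstanceAs (IsIso ((Over.forget _).map eC.inv))
  haveI : Flat (Red.bc v E).hom := inferInstanceAs (Flat (pullback.snd E.hom v))
  haveI : LocallyOfFinitePresentation (Red.bc v E).hom := inferInstanceAs (LocallyOfFinitePresentation (pullback.snd E.hom v))
  haveI : Module.Flat R C := by
    have h : Flat (Spec.map (CommRingCat.ofHom (algebraMap R C))) := by
      show Flat (GA R C).hom
      rw [← Over.w eC.inv]
      infer_instance
    rwa [HasRingHomProperty.Spec_iff (P := @Flat), CommRingCat.hom_ofHom, RingHom.flat_algebraMap_iff] at h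
  haveI : Algebra.FinitePresentation R C := by
    have h : LocallyOfFinitePresentation (Spec.map (CommRingCat.ofHom (algebraMap R C))) := by
      show LocallyOfFinitePresentation (GA R C).hom
      rw [← Over.w eC.inv]
      infer_instance
    rwa [HasRingHomProperty.Spec_iff (P := @LocallyOfFinitePresentation), CommRingCat.hom_ofHom,
      RingHom.finitePresentation_algebraMap] at h
  haveI : Coalgebra.IsCocomm R C := isCocomm_of_comm fun X a b => by
    rw [← cancel_mono eC.inv, MonObj.mul_comp _ _ eC.inv, MonObj.mul_comp _ _ eC.inv]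
    exact BC.down_injective (by rw [BC.down_mul, BC.down_mul, hcomm])
  refine ⟨R, inferInstance, v, inferInstance, C, inferInstance, inferInstance, ?_, inferInstance, ?_, ⟨BaseChange.grpIso eC⟩⟩
  · show s ∈ Set.range hV.fromSpec.base
    rw [hV.range_fromSpec]
    exact hsV
  · refine Groth.Agent.S5264.result R C inferInstance
      (fun P hP => (fibre_data E hfib v (BaseChange.grpIso eC) ⟨P, hP⟩).1) fun n hn => ?_
    obtain ⟨a, ha⟩ := exists_isPullback_kerMap n E v
    obtain ⟨i₁, hi₁⟩ := exists_iso_kerMap n (BaseChange.grpIso eC)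
    obtain ⟨i₂, hi₂⟩ := exists_iso_torsion (R := R) (C := C) n
    haveI : IsFinite (kerMap n (Red.bc v E)) :=
      MorphismProperty.of_isPullback (P := @IsFinite) ha (hfin n hn)
    have h : IsFinite (Spec.map (CommRingCat.ofHom (algebraMap R (C ⧸ SGA3b.torsionIdeal R C n)))) := by
      rw [← hi₂, show kerMap n (GA R C) = i₁.inv ≫ kerMap n (Red.bc v E) by rw [← hi₁, Iso.inv_hom_id_assoc]]
      infer_instance
    rwa [IsFinite.SpecMap_iff, CommRingCat.hom_ofHom, RingHom.finite_algebraMap] at h

/-- An extension of groups of multiplicative type with connected or commutative fibres is of multiplicative type. -/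
theorem isMultTypeFT_of_extension {H E K : Over S} [GrpObj H] [GrpObj E] [GrpObj K] {i : H ⟶ E} {p : E ⟶ K}
    [IsMonHom i] [IsMonHom p] [Surjective p.left] [Flat p.left] [QuasiCompact p.left] (hker : AlgGrp.IsKernel i p)
    (hH : SGA3x.IsMultTypeFT H) (hK : SGA3x.IsMultTypeFT K)
    (hfib : ∀ s : S, _root_.IsConnected (K.hom.base ⁻¹' {s}) ∨ FibComm E s) : SGA3x.IsMultTypeFT E := by
  haveI := Groth.Agent.H87.MT.isAffineHom hH
  haveI := Groth.Agent.H87.MT.isAffineHom hK
  haveI := Groth.Agent.H87.MT.flat hK
  haveI := Groth.Agent.H87.MT.locallyOfFinitePresentation hH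
  haveI := Groth.Agent.H87.MT.locallyOfFinitePresentation hK
  haveI := isAffineHom_ext hker
  haveI := locallyOfFinitePresentation_ext hker
  haveI : Flat E.hom := by
    rw [← Over.w p]
    infer_instance
  have hcomm : ∀ (X : Over S) (a b : X ⟶ E), a * b = b * a := fun X a b => commutative hker hH hK hfib a b
  exact isMultTypeFT_of_finite_torsion E hcomm (fun s => isMultTypeFT_geomFibre hker hH hK hcomm s)
    fun n hn => isFinite_kerMap hker hcomm n (isFinite_pow hH hn) (isFinite_pow hK hn)

end

end Groth.Agent.Lib.MTExt
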