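import Groth.Agent.Lib.MTExt.Kernel
import Groth.Agent.H87.Normal

/-!
Extensions of groups of multiplicative type with connected or commutative fibres are commutative.
-/

set_option autoImplicit false
set_option linter.style.haveILetI false
set_option linter.unusedSectionVars false

universe u

open CategoryTheory CategoryTheory.Limits MonoidalCategory CartesianMonoidalCategory MonObj GrpObj AlgebraicGeometry
open Groth.Agent.Lib.RedPts Groth.Agent.Lib.Tori

namespace Groth.Agent.Lib.MTExt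

noncomputable section

variable {S : Scheme.{u}}

/-- The fibre at `s` is commutative. -/
def FibComm (E : Over S) [GrpObj E] (s : S) : Prop :=
  ∀ (X : Over (Spec (S.residueField s))) (a b : X ⟶ Red.bc (S.fromSpecResidueField s) E), a * b = b * a

theorem commute_of_fibComm {E : Over S} [GrpObj E] {s : S} (h : FibComm E s) {X : Over S}
    (q : X.left ⟶ Spec (S.residueField s)) (hq : q ≫ S.fromSpecResidueField s = X.hom) (a b : X ⟶ E) :
    a * b = b * a := by
  let t := S.fromSpecResidueField s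
  let e : (Over.map t).obj (Over.mk q) ≅ X := Over.isoMk (Iso.refl _) ((Category.id_comp _).trans hq.symm)
  have h1 := congrArg (BC.down t) (h _ (BC.up t (e.hom ≫ a)) (BC.up t (e.hom ≫ b)))
  rw [BC.down_mul, BC.down_mul, BC.down_up, BC.down_up, ← comp_mul, ← comp_mul] at h1
  exact (cancel_epi e.hom).mp h1

/-- A residue field of a scheme over `S` maps to the residue field below. -/
theorem exists_residue_map (X : Over S) (x : X.left) (s : S) (hs : X.hom x = s) :
    ∃ q : Spec (X.left.residueField x) ⟶ Spec (S.residueField s),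
      q ≫ S.fromSpecResidueField s = X.left.fromSpecResidueField x ≫ X.hom := by
  subst hs
  exact ⟨_, X.hom.SpecMap_residueFieldMap_fromSpecResidueField x⟩

variable {H E K : Over S} [GrpObj H] [GrpObj E] [GrpObj K] {i : H ⟶ E} {p : E ⟶ K} [IsMonHom i] [IsMonHom p]
  [Surjective p.left] [Flat p.left] [QuasiCompact p.left]

/-- A kernel of multiplicative type is central if every fibre of the quotient is connected or every fibre of the
group is commutative. -/
theorem central (hker : AlgGrp.IsKernel i p) (hH : SGA3x.IsMultTypeFT H)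
    (hfib : ∀ s : S, _root_.IsConnected (K.hom.base ⁻¹' {s}) ∨ FibComm E s)
    {X : Over S} (k : X ⟶ E) (h : X ⟶ H) : k * (h ≫ i) = (h ≫ i) * k := by
  haveI := mono_of_kernel hker
  have hn : AlgGrp.IsNormalHom i := by
    intro T g n
    obtain ⟨n', hn'⟩ := exists_lift hker (g * (n ≫ i) * g⁻¹) (by
      rw [MonObj.mul_comp _ _ p, MonObj.mul_comp _ _ p, comp_kernel hker, _root_.mul_one, ← MonObj.mul_comp _ _ p,
        mul_inv_cancel, MonObj.one_comp p])
    exact ⟨n', hn'.symm⟩
  obtain ⟨U, hUc, hc, hpt⟩ := Groth.Agent.H87.Normal.exists_cent_locus i hH hn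
  refine Groth.Agent.H87.Normal.central_of_cent i U (Set.eq_univ_of_forall fun x => ?_) hc k h
  rcases hfib (E.hom x) with hconn | hcomm
  swap
  · rw [SetLike.mem_coe, ← E.left.fromSpecResidueField_apply x (IsLocalRing.closedPoint (E.left.residueField x))]
    refine (hpt (F := E.left.residueField x) (E.left.fromSpecResidueField x)).mp fun Y q a => ?_
    obtain ⟨r, hr⟩ := exists_residue_map E x _ rfl
    refine commute_of_fibComm hcomm (q.left ≫ r) ?_ _ _
    rw [Category.assoc, hr, ← Category.assoc]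
    exact congrArg (· ≫ E.hom) (Over.w q)
  have hsat : ∀ x y : E.left, p.left x = p.left y → x ∈ U → y ∈ U := by
    intro x y hxy hx
    obtain ⟨z, hz₁, hz₂⟩ := Scheme.Pullback.exists_preimage_pullback (f := p.left) (g := p.left) x y hxy
    let P := pullback p.left p.left
    let k₁ : Spec (P.residueField z) ⟶ E.left := P.fromSpecResidueField z ≫ pullback.fst p.left p.left
    let k₂ : Spec (P.residueField z) ⟶ E.left := P.fromSpecResidueField z ≫ pullback.snd p.left p.left
    have hp : k₁ ≫ p.left = k₂ ≫ p.left := by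
      simp only [k₁, k₂, Category.assoc, pullback.condition]
    have hK : k₁ ≫ E.hom = k₂ ≫ E.hom := by
      rw [← Over.w p, ← Category.assoc, hp, Category.assoc]
    have e₁ : k₁ (IsLocalRing.closedPoint (P.residueField z) : Spec (P.residueField z)) = x :=
      (congrArg (pullback.fst p.left p.left) (P.fromSpecResidueField_apply z _)).trans hz₁
    have e₂ : k₂ (IsLocalRing.closedPoint (P.residueField z) : Spec (P.residueField z)) = y :=
      (congrArg (pullback.snd p.left p.left) (P.fromSpecResidueField_apply z _)).trans hz₂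
    have h1 : Groth.Agent.H87.Normal.Cent i k₁ := (hpt (F := P.residueField z) k₁).mpr (e₁.symm ▸ hx)
    suffices Groth.Agent.H87.Normal.Cent i k₂ from e₂ ▸ (hpt (F := P.residueField z) k₂).mp this
    intro Y q a
    let Y₁ : Over E.left := Over.mk (q.left ≫ k₁)
    let e : (Over.map E.hom).obj Y ≅ (Over.map E.hom).obj Y₁ := Over.isoMk (Iso.refl _) (by
      show 𝟙 _ ≫ (q.left ≫ k₁) ≫ E.hom = Y.hom ≫ E.hom
      rw [Category.id_comp, ← Over.w q, Category.assoc, hK]
      simp)
    let t₁ := e.hom ≫ Groth.Agent.H87.Normal.tautPt Y₁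
    let t₂ := Groth.Agent.H87.Normal.tautPt Y
    have ht : t₂ ≫ p = t₁ ≫ p := by
      apply Over.OverMorphism.ext
      show Y.hom ≫ p.left = (𝟙 _ ≫ q.left ≫ k₁) ≫ p.left
      rw [Category.id_comp, Category.assoc, hp, ← Over.w q]
      simp
    obtain ⟨d, hd⟩ := exists_lift_div hker t₂ t₁ ht
    have h2 : t₁ * (a ≫ i) = (a ≫ i) * t₁ := by
      have h3 := congrArg (e.hom ≫ ·) (h1 Y₁ (Over.homMk q.left rfl) (e.inv ≫ a))
      simp only [comp_mul, Category.assoc, Iso.hom_inv_id_assoc] at h3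
      exact h3
    have h4 : (d ≫ i) * (a ≫ i) = (a ≫ i) * (d ≫ i) := by
      rw [← MonObj.mul_comp _ _ i, ← MonObj.mul_comp _ _ i, Groth.Agent.H87.Normal.comm hH]
    show t₂ * (a ≫ i) = (a ≫ i) * t₂
    rw [← hd, _root_.mul_assoc, h2, ← _root_.mul_assoc, h4, _root_.mul_assoc]
  have hq : Topology.IsQuotientMap p.left.base := Flat.isQuotientMap_of_surjective _
  let V : Set K.left := p.left.base '' (U : Set E.left)
  have hpre : p.left.base ⁻¹' V = U :=
    Set.Subset.antisymm (fun y ⟨x, hx, hxy⟩ => hsat x y hxy hx) (Set.subset_preimage_image _ _)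
  have hV : IsClopen V :=
    ⟨hq.isClosed_preimage.mp (hpre ▸ hUc), hq.isOpen_preimage.mp (hpre ▸ U.2)⟩
  let s := E.hom x
  have h1 : η[E].left s ∈ U := by
    have := (hpt (F := S.residueField s) (S.fromSpecResidueField s ≫ η[E].left)).mp (Groth.Agent.H87.Normal.cent_one i _)
    exact congrArg η[E].left (S.fromSpecResidueField_apply s _) ▸ this
  have hmem : ∀ y : E.left, E.hom y = s → p.left y ∈ K.hom.base ⁻¹' {s} := fun y hy => by
    show K.hom (p.left y) = s
    rw [← Scheme.Hom.comp_apply, Over.w p, hy]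
  have hη : E.hom (η[E].left s) = s := congr($(Over.w η[E]) s)
  exact hpre ▸ hconn.isPreconnected.subset_isClopen hV ⟨_, hmem _ hη, _, h1, rfl⟩ (hmem x rfl)

theorem bilin_aux {G : Type*} [Group G] (a b b' : G) (hb : b * (a * b' * a⁻¹ * b'⁻¹) = (a * b' * a⁻¹ * b'⁻¹) * b) :
    a * (b * b') * a⁻¹ * (b * b')⁻¹ = (a * b * a⁻¹ * b⁻¹) * (a * b' * a⁻¹ * b'⁻¹) := by
  calc a * (b * b') * a⁻¹ * (b * b')⁻¹ = (a * b * a⁻¹) * (a * b' * a⁻¹ * b'⁻¹) * b⁻¹ := by group
    _ = (a * b * a⁻¹ * b⁻¹) * (b * (a * b' * a⁻¹ * b'⁻¹)) * b⁻¹ := by group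
    _ = _ := by rw [hb]; group

theorem congr_aux {G : Type*} [Group G] (x y a b : G) (hx : ∀ g, g * x = x * g) (hy : ∀ g, g * y = y * g) :
    (x * a) * (y * b) * (x * a)⁻¹ * (y * b)⁻¹ = a * b * a⁻¹ * b⁻¹ := by
  calc (x * a) * (y * b) * (x * a)⁻¹ * (y * b)⁻¹ = x * (a * y) * b * a⁻¹ * x⁻¹ * b⁻¹ * y⁻¹ := by group
    _ = x * (y * a) * b * a⁻¹ * (x⁻¹ * b⁻¹) * y⁻¹ := by rw [hy a]; group
    _ = x * (y * a) * b * a⁻¹ * (b⁻¹ * x⁻¹) * y⁻¹ := by rw [(Commute.inv_right (show Commute b⁻¹ x from hx _)).eq]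
    _ = (x * y) * (a * b * a⁻¹ * b⁻¹) * (y * x)⁻¹ := by group
    _ = (a * b * a⁻¹ * b⁻¹) * (x * y) * (y * x)⁻¹ := by
      rw [← (show Commute (a * b * a⁻¹ * b⁻¹) (x * y) from Commute.mul_right (hx _) (hy _)).eq]
    _ = _ := by rw [show x * y = y * x from hy x, mul_inv_cancel_right]

set_option backward.isDefEq.respectTransparency false in
variable (i p) in
/-- The commutator pairing of a central extension with commutative quotient. -/
theorem exists_pairing (hker : AlgGrp.IsKernel i p) (hcent : ∀ (X : Over S) (e : X ⟶ E) (h : X ⟶ H), e * (h ≫ i) = (h ≫ i) * e)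
    (hK : ∀ (X : Over S) (a b : X ⟶ K), a * b = b * a) :
    ∃ c : K ⊗ K ⟶ H, (∀ (X : Over S) (a b : X ⟶ E), lift (a ≫ p) (b ≫ p) ≫ c ≫ i = a * b * a⁻¹ * b⁻¹) ∧
      ∀ (X : Over S) (k l l' : X ⟶ K), lift k (l * l') ≫ c = (lift k l ≫ c) * (lift k l' ≫ c) := by
  haveI := mono_of_kernel hker
  obtain ⟨c₀, hc₀⟩ := exists_lift hker (fst E E * snd E E * (fst E E)⁻¹ * (snd E E)⁻¹) (by
    rw [MonObj.mul_comp _ _ p, MonObj.mul_comp _ _ p, MonObj.mul_comp _ _ p, GrpObj.inv_comp _ p, GrpObj.inv_comp _ p,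
      hK _ (fst E E ≫ p), mul_inv_cancel_right, mul_inv_cancel])
  have hval : ∀ (X : Over S) (a b : X ⟶ E), lift a b ≫ c₀ ≫ i = a * b * a⁻¹ * b⁻¹ := fun X a b => by
    rw [hc₀]
    simp [comp_mul, comp_inv]
  have hmap : ∀ (P : MorphismProperty Scheme.{u}) [P.IsStableUnderBaseChange] [P.IsStableUnderComposition],
      P p.left → P (p ⊗ₘ p).left := fun P _ _ h => by
    rw [Over.tensorHom_left]
    exact MorphismProperty.pullbackMap h h (Over.w p).symm (Over.w p).symm
  haveI : MorphismProperty.IsStableUnderComposition @Surjective.{u} := ⟨fun _ _ hf hg => ⟨hg.1.comp hf.1⟩⟩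
  haveI : Surjective (p ⊗ₘ p).left := hmap @Surjective inferInstance
  haveI : Flat (p ⊗ₘ p).left := hmap @Flat inferInstance
  haveI : QuasiCompact (p ⊗ₘ p).left := hmap @QuasiCompact inferInstance
  obtain ⟨c, hc⟩ := exists_desc (p ⊗ₘ p) c₀ fun X a b hab => by
    have h1 : (a ≫ fst E E) ≫ p = (b ≫ fst E E) ≫ p := by simpa using congrArg (· ≫ fst K K) hab
    have h2 : (a ≫ snd E E) ≫ p = (b ≫ snd E E) ≫ p := by simpa using congrArg (· ≫ snd K K) hab
    obtain ⟨x, hx⟩ := exists_lift_div hker _ _ h1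
    obtain ⟨y, hy⟩ := exists_lift_div hker _ _ h2
    rw [← cancel_mono i, Category.assoc, Category.assoc, ← lift_comp_fst_snd a, ← lift_comp_fst_snd b, hval, hval, ← hx, ← hy]
    exact congr_aux _ _ _ _ (fun g => hcent _ g x) (fun g => hcent _ g y)
  have hc' : ∀ (X : Over S) (a b : X ⟶ E), lift (a ≫ p) (b ≫ p) ≫ c ≫ i = a * b * a⁻¹ * b⁻¹ := fun X a b => by
    rw [← lift_map, Category.assoc, reassoc_of% hc, hval]
  refine ⟨c, hc', fun X k l l' => ?_⟩
  obtain ⟨X₁, π₁, a, hπ₁, ha⟩ := exists_cover p k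
  obtain ⟨X₂, π₂, b, hπ₂, hb⟩ := exists_cover p (π₁ ≫ l)
  obtain ⟨X₃, π₃, b', hπ₃, hb'⟩ := exists_cover p (π₂ ≫ π₁ ≫ l')
  rw [← cancel_epi π₁, ← cancel_epi π₂, ← cancel_epi π₃, ← cancel_mono i]
  simp only [Category.assoc, comp_mul, comp_lift_assoc, MonObj.mul_comp]
  rw [← hb', show π₃ ≫ π₂ ≫ π₁ ≫ k = (π₃ ≫ π₂ ≫ a) ≫ p by simp [ha],
    show π₃ ≫ π₂ ≫ π₁ ≫ l = (π₃ ≫ b) ≫ p by simp [hb], ← MonObj.mul_comp _ _ p, hc', hc', hc']
  refine bilin_aux _ _ _ ?_
  rw [← hc', ← Category.assoc]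
  exact hcent _ _ _

/-- An extension of groups of multiplicative type with connected or commutative fibres is commutative. -/
theorem commutative (hker : AlgGrp.IsKernel i p) (hH : SGA3x.IsMultTypeFT H) (hK : SGA3x.IsMultTypeFT K)
    (hfib : ∀ s : S, _root_.IsConnected (K.hom.base ⁻¹' {s}) ∨ FibComm E s) {X : Over S} (a b : X ⟶ E) :
    a * b = b * a := by
  haveI := mono_of_kernel hker
  have hcent : ∀ (X : Over S) (e : X ⟶ E) (h : X ⟶ H), e * (h ≫ i) = (h ≫ i) * e := fun X e h => central hker hH hfib e h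
  obtain ⟨c, hc, hmul⟩ := exists_pairing i p hker hcent fun X x y => Groth.Agent.H87.Normal.comm hK x y
  let g := K.hom
  let K' := Red.bc g K
  let H' := Red.bc g H
  let w : K' ⟶ H' := BC.up g (lift (Groth.Agent.H87.Normal.tautPt K') (BC.down g (𝟙 K')) ≫ c)
  have hw : ∀ {Y : Over K.left} (x : Y ⟶ K'),
      BC.down g (x ≫ w) = lift (Groth.Agent.H87.Normal.tautPt Y) (BC.down g x) ≫ c := by
    intro Y x
    have ht : (Over.map g).map x ≫ Groth.Agent.H87.Normal.tautPt K' = Groth.Agent.H87.Normal.tautPt Y :=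
      Over.OverMorphism.ext (Over.w x)
    have hx : (Over.map g).map x ≫ BC.down g (𝟙 K') = BC.down g x := by rw [← BC.down_comp, Category.comp_id]
    rw [BC.down_comp, BC.down_up, comp_lift_assoc, ht, hx]
  haveI : IsMonHom w := Groth.Agent.H87.HomDS.isMonHom_of_points w fun Y x y => BC.down_injective (by
    rw [BC.down_mul, hw, hw, hw, BC.down_mul, hmul])
  have hH' := Groth.Agent.H87.Normal.multTypeFT_bc hH g
  haveI := Groth.Agent.H87.MT.isAffineHom hH'
  obtain ⟨U, hUc, hUe, hk⟩ := Groth.Agent.H87.Locus.exists_trivial_locus w (Groth.Agent.H87.Normal.multTypeFT_bc hK g)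
    (Or.inr (Groth.Agent.H87.MT.locallyOfFinitePresentation hH'))
  have hkill : ∀ {T : Scheme.{u}} (t : T ⟶ K.left), (∀ (Y : Over K.left) (_ : Y ⟶ Over.mk t) (X' : Over S)
      (π : X' ⟶ (Over.map g).obj Y) (x y : X' ⟶ E), x ≫ p = π ≫ Groth.Agent.H87.Normal.tautPt Y → x * y = y * x) →
      Groth.Agent.H87.Locus.Kills w t := by
    intro T t ht Y q γ
    apply BC.down_injective
    rw [hw, BC.down_one]
    obtain ⟨X₁, π₁, x, hπ₁, hx⟩ := exists_cover p (Groth.Agent.H87.Normal.tautPt Y)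
    obtain ⟨X₂, π₂, y, hπ₂, hy⟩ := exists_cover p (π₁ ≫ BC.down g γ)
    rw [← cancel_epi π₁, ← cancel_epi π₂, ← cancel_mono i]
    simp only [comp_lift_assoc, Category.assoc, MonObj.comp_one, MonObj.one_comp]
    rw [← hy, show π₂ ≫ π₁ ≫ Groth.Agent.H87.Normal.tautPt Y = (π₂ ≫ x) ≫ p by simp [hx], hc,
      ht Y q X₂ (π₂ ≫ π₁) (π₂ ≫ x) y (by simp [hx])]
    group
  have huniv : ∀ z : K.left, z ∈ U := by
    intro z
    rcases hfib (K.hom z) with hconn | hcomm
    swap
    · rw [← SetLike.mem_coe, hUe]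
      refine hkill _ fun Y q X' π x y _ => ?_
      obtain ⟨r, hr⟩ := exists_residue_map K z _ rfl
      refine commute_of_fibComm hcomm (π.left ≫ q.left ≫ r) ?_ x y
      rw [Category.assoc, Category.assoc, hr, ← Over.w π]
      exact congrArg (π.left ≫ ·) ((Category.assoc _ _ _).symm.trans (congrArg (· ≫ K.hom) (Over.w q)))
    have h1 : η[K].left (K.hom z) ∈ U := by
      have h2 : Groth.Agent.H87.Locus.Kills w (S.fromSpecResidueField (K.hom z) ≫ η[K].left) := by
        refine hkill _ fun Y q X' π x y hx => ?_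
        have ht : Groth.Agent.H87.Normal.tautPt Y = 1 := by
          apply Over.OverMorphism.ext
          rw [Hom.one_def]
          show Y.hom = (Y.hom ≫ K.hom) ≫ η[K].left
          rw [← Over.w q]
          simp only [Over.mk_hom, Category.assoc]
          erw [reassoc_of% (Over.w η[K] : η[K].left ≫ K.hom = _)]
          simp
        rw [ht, MonObj.comp_one] at hx
        obtain ⟨x', rfl⟩ := exists_lift hker x hx
        exact (hcent _ y x').symm
      have h3 := (Groth.Agent.H87.Locus.kills_point_iff w (K := S.residueField (K.hom z)) (S.fromSpecResidueField (K.hom z) ≫ η[K].left)).mp h2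
      rw [← hUe] at h3
      exact congrArg η[K].left (S.fromSpecResidueField_apply (K.hom z) _) ▸ h3
    exact hconn.isPreconnected.subset_isClopen ⟨hUc, U.2⟩ ⟨_, congr($(Over.w η[K]) (K.hom z)), h1⟩ rfl
  have htriv : ∀ (X : Over S) (k l : X ⟶ K), lift k l ≫ c = 1 := by
    intro X k l
    let Y : Over K.left := Over.mk k.left
    let e : (Over.map K.hom).obj Y ≅ X := Over.isoMk (Iso.refl _) ((Category.id_comp _).trans (Over.w k).symm)
    have hk' : e.hom ≫ k = Groth.Agent.H87.Normal.tautPt Y := Over.OverMorphism.ext (Category.id_comp _)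
    have h1 := congrArg (BC.down g) (hk Y (Over.homMk (IsOpenImmersion.lift U.ι Y.hom (by
        rw [Scheme.Opens.range_ι]; exact fun z _ => huniv z)) (IsOpenImmersion.lift_fac _ _ _)) (BC.up g (e.hom ≫ l)))
    rw [hw, BC.down_one, BC.down_up, ← hk', ← comp_lift_assoc] at h1
    rwa [← cancel_epi e.hom, MonObj.comp_one]
  have h := hc X a b
  rw [← Category.assoc, htriv, MonObj.one_comp i] at h
  exact mul_inv_eq_iff_eq_mul.mp (mul_inv_eq_one.mp h.symm)

end

end Groth.Agent.Lib.MTExt
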