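import Groth.Prelude.Def_AlgGrp
import Groth.Prelude.Def_Red
import Mathlib.AlgebraicGeometry.EffectiveEpi
import Mathlib.AlgebraicGeometry.Sites.Fpqc
import Mathlib.AlgebraicGeometry.Morphisms.Flat

/-!
Kernels of faithfully flat homomorphisms of group schemes.
-/

set_option autoImplicit false
set_option linter.style.haveILetI false
set_option linter.unusedSectionVars false

universe u

open CategoryTheory CategoryTheory.Limits MonoidalCategory CartesianMonoidalCategory MonObj GrpObj AlgebraicGeometry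

namespace Groth.Agent.Lib.MTExt

noncomputable section

variable {S : Scheme.{u}}

section Cover

variable {E K : Over S} (p : E ⟶ K) [Surjective p.left] [Flat p.left] [QuasiCompact p.left]

/-- Morphisms descend along a faithfully flat quasi-compact morphism. -/
theorem exists_desc {Z : Over S} (f : E ⟶ Z)
    (h : ∀ (X : Over S) (a b : X ⟶ E), a ≫ p = b ≫ p → a ≫ f = b ≫ f) : ∃ g : K ⟶ Z, p ≫ g = f := by
  have hw : ∀ {W : Scheme.{u}} (a b : W ⟶ E.left), a ≫ p.left = b ≫ p.left → a ≫ f.left = b ≫ f.left := by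
    intro W a b hab
    have hb : b ≫ E.hom = a ≫ E.hom := by rw [← Over.w p, ← Category.assoc, ← hab, Category.assoc]
    exact congr($(h (Over.mk (a ≫ E.hom)) (Over.homMk a) (Over.homMk b hb) (Over.OverMorphism.ext hab)).left)
  refine ⟨Over.homMk (EffectiveEpi.desc p.left f.left hw) ?_, Over.OverMorphism.ext (EffectiveEpi.fac p.left f.left hw)⟩
  haveI : Epi p.left := Flat.epi_of_flat_of_surjective _
  rw [← cancel_epi p.left, EffectiveEpi.fac_assoc p.left f.left hw, Over.w f, Over.w p]

/-- Points lift locally. -/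
theorem exists_cover {X : Over S} (k : X ⟶ K) :
    ∃ (X' : Over S) (π : X' ⟶ X) (e : X' ⟶ E), Epi π ∧ e ≫ p = π ≫ k := by
  let π : Over.mk (pullback.fst k.left p.left ≫ X.hom) ⟶ X := Over.homMk (pullback.fst k.left p.left)
  let e : Over.mk (pullback.fst k.left p.left ≫ X.hom) ⟶ E := Over.homMk (pullback.snd k.left p.left) (by
    show pullback.snd k.left p.left ≫ E.hom = pullback.fst k.left p.left ≫ X.hom
    rw [← Over.w p, ← Category.assoc, ← pullback.condition, Category.assoc, Over.w k])
  haveI : Epi (pullback.fst k.left p.left) := Flat.epi_of_flat_of_surjective _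
  exact ⟨_, π, e, (Over.forget S).epi_of_epi_map (show Epi ((Over.forget S).map π) from this),
    Over.OverMorphism.ext pullback.condition.symm⟩

end Cover

variable {H E K : Over S} [GrpObj K] {i : H ⟶ E} {p : E ⟶ K}

theorem mono_of_kernel (hker : AlgGrp.IsKernel i p) : Mono i :=
  ⟨fun _ _ hab => hker.hom_ext hab (toUnit_unique _ _)⟩

theorem comp_kernel (hker : AlgGrp.IsKernel i p) {X : Over S} (y : X ⟶ H) : (y ≫ i) ≫ p = 1 := by
  rw [Category.assoc, hker.w, ← Category.assoc, Hom.one_def, toUnit_unique (y ≫ toUnit H) (toUnit X)]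

theorem exists_lift (hker : AlgGrp.IsKernel i p) {X : Over S} (x : X ⟶ E) (h : x ≫ p = 1) :
    ∃ y : X ⟶ H, y ≫ i = x :=
  ⟨hker.lift x (toUnit X) (h.trans Hom.one_def), hker.lift_fst _ _ _⟩

variable [GrpObj E] [GrpObj H] [IsMonHom i] [IsMonHom p]

theorem exists_lift_div (hker : AlgGrp.IsKernel i p) {X : Over S} (a b : X ⟶ E) (h : a ≫ p = b ≫ p) :
    ∃ y : X ⟶ H, (y ≫ i) * b = a := by
  obtain ⟨y, hy⟩ := exists_lift hker (a * b⁻¹) (by rw [MonObj.mul_comp _ _ p, GrpObj.inv_comp _ p, h, mul_inv_cancel])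
  exact ⟨y, by rw [hy, inv_mul_cancel_right]⟩

/-- The shearing isomorphism. -/
theorem isPullback_shear (hker : AlgGrp.IsKernel i p) :
    IsPullback ((fst H E ≫ i) * snd H E) (snd H E) p p := by
  haveI := mono_of_kernel hker
  refine ⟨⟨by rw [MonObj.mul_comp _ _ p, comp_kernel hker, _root_.one_mul]⟩, ⟨PullbackCone.IsLimit.mk _
    (fun s => lift (hker.lift (s.fst * s.snd⁻¹) (toUnit _)
      (by rw [MonObj.mul_comp _ _ p, GrpObj.inv_comp _ p, s.condition, mul_inv_cancel, Hom.one_def])) s.snd)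
    (fun s => ?_) (fun s => lift_snd _ _) fun s m h1 h2 => ?_⟩⟩
  · rw [comp_mul, ← Category.assoc, lift_fst, lift_snd, hker.lift_fst, inv_mul_cancel_right]
  · apply hom_ext
    · rw [lift_fst, ← cancel_mono i, hker.lift_fst, eq_mul_inv_iff_mul_eq, ← h1, ← h2, comp_mul, Category.assoc]
    · rw [lift_snd, h2]

/-- Kernels are stable under base change. -/
theorem isKernel_bc (hker : AlgGrp.IsKernel i p) {T : Scheme.{u}} (t : T ⟶ S) :
    AlgGrp.IsKernel ((Over.pullback t).map i) ((Over.pullback t).map p) := by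
  let F := Over.pullback t
  refine IsPullback.of_iso (hker.map F) (Iso.refl _) (Iso.refl _) (asIso (Functor.LaxMonoidal.ε F)).symm (Iso.refl _)
    (by simp [F]) (toUnit_unique _ _) (by simp [F]) ?_
  show F.map η[K] ≫ 𝟙 _ = inv (Functor.LaxMonoidal.ε F) ≫ (Functor.LaxMonoidal.ε F ≫ F.map η[K])
  simp

end

end Groth.Agent.Lib.MTExt
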